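import Groth.Agent.InjFibre.SliceAlg

/-!
# Regular sequences on the fibres of a flat finitely presented module form an open condition
-/

universe u

set_option autoImplicit false
set_option linter.style.haveILetI false
set_option backward.isDefEq.respectTransparency false

open TensorProduct RingTheory.Sequence Groth.Agent.InjFibre
open scoped Pointwise

namespace Groth.Agent.FibRegOpen

/-- Quotient by an ideal and by an element commute. -/
noncomputable def quotSwap {B M : Type u} [CommRing B] [AddCommGroup M] [Module B M] (J : Ideal B) (f : B) :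
    QuotSMulTop f (M ⧸ J • (⊤ : Submodule B M)) ≃ₗ[B]
      QuotSMulTop f M ⧸ J • (⊤ : Submodule B (QuotSMulTop f M)) :=
  Submodule.quotEquivOfEq _ _ (by rw [Submodule.map_pointwise_smul, Submodule.map_top, Submodule.range_mkQ]) ≪≫ₗ
    Submodule.quotientQuotientEquivQuotientSup (J • (⊤ : Submodule B M)) (f • ⊤) ≪≫ₗ
    Submodule.quotEquivOfEq _ _ (sup_comm _ _) ≪≫ₗ
    (Submodule.quotientQuotientEquivQuotientSup (f • (⊤ : Submodule B M)) (J • (⊤ : Submodule B M))).symm ≪≫ₗ
    Submodule.quotEquivOfEq _ _ (by rw [Submodule.map_smul'', Submodule.map_top, Submodule.range_mkQ])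

/-- Injectivity modulo an ideal from a flat cokernel. -/
theorem mem_smul_of_exact {A N M P : Type u} [CommRing A] [AddCommGroup N] [Module A N] [AddCommGroup M] [Module A M]
    [AddCommGroup P] [Module A P] [Module.Flat A P] (g : M →ₗ[A] P) (hg : Function.Surjective g) (u : N →ₗ[A] M)
    (hu : Function.Injective u) (hex : Function.Exact u g) (I : Ideal A) (x : N) (hx : u x ∈ I • (⊤ : Submodule A M)) :
    x ∈ I • (⊤ : Submodule A N) :=
  (LocalCrit.quot_lTensor_injective_iff _ u).1
    (LinearMap.lTensor_injective_of_exact_of_flat g hg u hu hex (A ⧸ I)) x hx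

/-- An injective endomorphism with flat cokernel stays injective modulo an ideal of the base. -/
theorem isSMulRegular_quot_of_flat {A B V : Type u} [CommRing A] [CommRing B] [Algebra A B] [AddCommGroup V]
    [Module B V] [Module A V] [IsScalarTower A B V] (f : B) (hf : IsSMulRegular V f)
    [Module.Flat A (QuotSMulTop f V)] (I : Ideal A) :
    IsSMulRegular (V ⧸ I.map (algebraMap A B) • (⊤ : Submodule B V)) f := by
  let u : V →ₗ[A] V := (LinearMap.lsmul B V f).restrictScalars A
  let g : V →ₗ[A] QuotSMulTop f V := (f • (⊤ : Submodule B V)).mkQ.restrictScalars A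
  have hex : Function.Exact u g := fun z =>
    (Submodule.Quotient.mk_eq_zero (f • (⊤ : Submodule B V))).trans
      ((Submodule.mem_smul_pointwise_iff_exists z f ⊤).trans
        ⟨fun ⟨w, _, hw⟩ => ⟨w, hw⟩, fun ⟨w, hw⟩ => ⟨w, Submodule.mem_top, hw⟩⟩)
  rw [isSMulRegular_iff_right_eq_zero_of_smul]
  intro z hz
  obtain ⟨z, rfl⟩ := Submodule.Quotient.mk_surjective _ z
  rw [← Submodule.Quotient.mk_smul, Submodule.Quotient.mk_eq_zero, mem_smul_top_iff] at hz
  rw [Submodule.Quotient.mk_eq_zero, mem_smul_top_iff]
  have hg : Function.Surjective g := fun y => by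
    obtain ⟨w, rfl⟩ := Submodule.Quotient.mk_surjective (f • (⊤ : Submodule B V)) y
    exact ⟨w, rfl⟩
  have hu : Function.Injective u := fun a b h => hf h
  exact mem_smul_of_exact g hg u hu hex I z hz

variable (R : Type u) [CommRing R] {S : Type u} [CommRing S] [Algebra R S]

/-- The sequence is weakly regular on the fibre of `M` at `q`. -/
def FibReg (M : Type u) [AddCommGroup M] [Module S M] (fs : List S) (q : PrimeSpectrum S) : Prop :=
  IsWeaklyRegular (LocalizedModule q.asIdeal.primeCompl M ⧸
    ((q.asIdeal.comap (algebraMap R S)).map (algebraMap R (Localization q.asIdeal.primeCompl)) •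
      (⊤ : Submodule (Localization q.asIdeal.primeCompl) (LocalizedModule q.asIdeal.primeCompl M))))
    (fs.map (algebraMap S (Localization q.asIdeal.primeCompl)))

variable {R}

set_option maxHeartbeats 1000000 in
theorem fibReg_cons_iff [Algebra.FinitePresentation R S] (M : Type u) [AddCommGroup M] [Module S M] [Module R M]
    [IsScalarTower R S M] [Module.FinitePresentation S M] (f : S) (fs : List S) (q : PrimeSpectrum S) :
    (Module.Flat R (LocalizedModule q.asIdeal.primeCompl M) ∧ FibReg R M (f :: fs) q) ↔
      Module.Flat R (LocalizedModule q.asIdeal.primeCompl M) ∧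
        ((∀ m, (∃ a ∉ q.asIdeal, a • LinearMap.lsmul S M f m = 0) → ∃ a ∉ q.asIdeal, a • m = 0) ∧
          Module.Flat R (LocalizedModule q.asIdeal.primeCompl (M ⧸ LinearMap.range (LinearMap.lsmul S M f)))) ∧
        Module.Flat R (LocalizedModule q.asIdeal.primeCompl (M ⧸ LinearMap.range (LinearMap.lsmul S M f))) ∧
          FibReg R (M ⧸ LinearMap.range (LinearMap.lsmul S M f)) fs q := by
  let C := q.asIdeal.primeCompl
  let Sq := Localization C
  let LM := LocalizedModule C M
  let N := M ⧸ LinearMap.range (LinearMap.lsmul S M f)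
  let LN := LocalizedModule C N
  let af : Sq := algebraMap S Sq f
  let J : Ideal Sq := (q.asIdeal.comap (algebraMap R S)).map (algebraMap R Sq)
  refine and_congr_right fun hfl => ?_
  haveI := hfl
  haveI : IsScalarTower R Sq LM := IsScalarTower.of_algebraMap_smul fun r x => by
    rw [IsScalarTower.algebraMap_apply R S Sq, algebraMap_smul, algebraMap_smul]
  haveI : Module.FinitePresentation Sq LM :=
    inferInstanceAs (Module.FinitePresentation (Localization C) (LocalizedModule C M))
  have hφ : ∀ z : LM, LocalizedModule.map C (LinearMap.lsmul S M f) z = af • z := fun z => by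
    induction z using LocalizedModule.induction_on with
    | h m s => rw [LocalizedModule.map_mk, algebraMap_smul, LocalizedModule.smul'_mk]; rfl
  let π : LM →ₗ[Sq] LN := LocalizedModule.map C (LinearMap.range (LinearMap.lsmul S M f)).mkQ
  have hπs : Function.Surjective π := IsLocalizedModule.map_surjective C (LocalizedModule.mkLinearMap C M)
    (LocalizedModule.mkLinearMap C N) _ (Submodule.mkQ_surjective _)
  have hπk : LinearMap.ker π = af • (⊤ : Submodule Sq LM) := by
    ext z
    have h0 := LocalizedModule.map_exact C (LinearMap.lsmul S M f) (LinearMap.range (LinearMap.lsmul S M f)).mkQ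
      (LinearMap.exact_map_mkQ_range _) z
    simp only [LinearMap.mem_ker, Submodule.mem_smul_pointwise_iff_exists, Submodule.mem_top, true_and]
    exact h0.trans ⟨fun ⟨w, hw⟩ => ⟨w, (hφ w).symm.trans hw⟩, fun ⟨w, hw⟩ => ⟨w, (hφ w).trans hw⟩⟩
  let e : QuotSMulTop af LM ≃ₗ[Sq] LN :=
    Submodule.quotEquivOfEq _ _ hπk.symm ≪≫ₗ π.quotKerEquivOfSurjective hπs
  have hflat : Module.Flat R (QuotSMulTop af LM) ↔ Module.Flat R LN := by
    haveI : IsScalarTower R Sq LN := IsScalarTower.of_algebraMap_smul fun r x => by
      rw [IsScalarTower.algebraMap_apply R S Sq, algebraMap_smul, algebraMap_smul]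
    exact ⟨fun h => haveI := h; Module.Flat.of_linearEquiv (e.restrictScalars R).symm,
      fun h => haveI := h; Module.Flat.of_linearEquiv (e.restrictScalars R)⟩
  have hinj : IsSMulRegular LM af ↔ ∀ m, (∃ a ∉ q.asIdeal, a • LinearMap.lsmul S M f m = 0) → ∃ a ∉ q.asIdeal, a • m = 0 := by
    constructor
    · rintro h m ⟨a, ha, ham⟩
      have h1 : af • LocalizedModule.mkLinearMap C M m = 0 := by
        rw [algebraMap_smul, ← map_smul]
        exact LocalizedModule.mem_ker_mkLinearMap_iff.2 ⟨a, ha, ham⟩
      exact LocalizedModule.mem_ker_mkLinearMap_iff.1 (h.right_eq_zero_of_smul h1)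
    · intro h
      rw [isSMulRegular_iff_right_eq_zero_of_smul]
      intro z hz
      induction z using LocalizedModule.induction_on with
      | h m s =>
        rw [algebraMap_smul, LocalizedModule.smul'_mk, ← LocalizedModule.zero_mk (1 : C), LocalizedModule.mk_eq] at hz
        obtain ⟨⟨a, ha⟩, hz⟩ := hz
        simp only [Submonoid.smul_def, OneMemClass.coe_one, one_smul, smul_zero] at hz
        obtain ⟨c, hc, hcm⟩ := h m ⟨a, ha, hz⟩
        rw [← LocalizedModule.zero_mk s, LocalizedModule.mk_eq]
        exact ⟨⟨c, hc⟩, by simp [Submonoid.smul_def, smul_comm c, hcm]⟩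
  have hrest : IsWeaklyRegular (QuotSMulTop af (LM ⧸ J • (⊤ : Submodule Sq LM))) (fs.map (algebraMap S Sq)) ↔
      FibReg R N fs q := by
    refine LinearEquiv.isWeaklyRegular_congr ((quotSwap J af).trans (Submodule.Quotient.equiv _ _ e ?_)) _
    rw [Submodule.map_smul'', Submodule.map_top, LinearEquiv.range]
  change IsWeaklyRegular (LM ⧸ J • (⊤ : Submodule Sq LM)) (af :: fs.map (algebraMap S Sq)) ↔ _
  rw [isWeaklyRegular_cons_iff, hrest]
  constructor
  · rintro ⟨h1, h2⟩
    obtain ⟨h3, h4⟩ := regSeq_atPrime (R := R) (S' := Sq) q.asIdeal LM [af]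
      ((isWeaklyRegular_cons_iff _ _ _).2 ⟨h1, IsWeaklyRegular.nil _ _⟩)
    haveI := h4 1 (by simp)
    have h5 : Module.Flat R LN := hflat.1 (Module.Flat.of_linearEquiv
      ((Submodule.quotEquivOfEq (af • (⊤ : Submodule Sq LM)) (Ideal.ofList (([af] : List Sq).take 1) • ⊤) (by
        rw [List.take_of_length_le (by simp), Ideal.ofList_singleton, Submodule.ideal_span_singleton_smul])).restrictScalars R))
    exact ⟨⟨hinj.1 ((isWeaklyRegular_cons_iff _ _ _).1 h3).1, h5⟩, h5, h2⟩
  · rintro ⟨⟨h1, h2⟩, -, h3⟩
    refine ⟨?_, h3⟩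
    haveI := hflat.2 h2
    exact isSMulRegular_quot_of_flat af (hinj.2 h1) _

/-- **Openness of fibrewise regular sequences on the flat locus.** -/
theorem isOpen_flat_fibReg [Algebra.FinitePresentation R S] : ∀ (fs : List S) (M : Type u) [AddCommGroup M] [Module S M]
    [Module R M] [IsScalarTower R S M] [Module.FinitePresentation S M],
    IsOpen {q : PrimeSpectrum S | Module.Flat R (LocalizedModule q.asIdeal.primeCompl M) ∧ FibReg R M fs q} := by
  intro fs
  induction fs with
  | nil =>
    intro M _ _ _ _ _
    have : {q : PrimeSpectrum S | Module.Flat R (LocalizedModule q.asIdeal.primeCompl M) ∧ FibReg R M [] q} =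
        {q | Module.Flat R (LocalizedModule q.asIdeal.primeCompl M)} := by
      ext q
      exact ⟨fun h => h.1, fun h => ⟨h, IsWeaklyRegular.nil _ _⟩⟩
    rw [this]
    exact FlatSpread.isOpen_flatLocus
  | cons f fs ih =>
    intro M _ _ _ _ _
    let φ := LinearMap.lsmul S M f
    haveI : Module.FinitePresentation S (M ⧸ LinearMap.range φ) :=
      Module.finitePresentation_of_surjective (LinearMap.range φ).mkQ (Submodule.mkQ_surjective _)
        (by rw [Submodule.ker_mkQ]; exact Module.Finite.iff_fg.1 inferInstance)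
    have : {q : PrimeSpectrum S | Module.Flat R (LocalizedModule q.asIdeal.primeCompl M) ∧ FibReg R M (f :: fs) q} =
        {q | Module.Flat R (LocalizedModule q.asIdeal.primeCompl M)} ∩
          ({q | (∀ m, (∃ a ∉ q.asIdeal, a • φ m = 0) → ∃ a ∉ q.asIdeal, a • m = 0) ∧
              Module.Flat R (LocalizedModule q.asIdeal.primeCompl (M ⧸ LinearMap.range φ))} ∩
            {q | Module.Flat R (LocalizedModule q.asIdeal.primeCompl (M ⧸ LinearMap.range φ)) ∧
              FibReg R (M ⧸ LinearMap.range φ) fs q}) := by
      ext q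
      exact fibReg_cons_iff M f fs q
    rw [this]
    exact FlatSpread.isOpen_flatLocus.inter ((isOpen_inj_flat φ).inter (ih _))

end Groth.Agent.FibRegOpen
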