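import Groth.Agent.FibRegOpen.Alg
import Groth.Agent.InjFibre.Stalk
import Groth.Agent.QC.Coherent

/-!
# `FibReg` on a chart, read in the stalks
-/

universe u

set_option autoImplicit false
set_option linter.style.haveILetI false
set_option backward.isDefEq.respectTransparency false

open CategoryTheory AlgebraicGeometry TopologicalSpace IsLocalRing RingTheory.Sequence

namespace Groth.Agent.FibRegOpen

open Groth.Agent.QC

set_option maxHeartbeats 1000000 in
theorem fibReg_chart {X Y : Scheme.{u}} (f : X ⟶ Y) (F : X.Modules) (hF : Coh.IsQCoh F) {V : Y.Opens}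
    (hV : IsAffineOpen V) {W : X.Opens} (hW : IsAffineOpen W) (e : W ≤ f ⁻¹ᵁ V) (x : X) (hx : x ∈ W)
    (fs : List Γ(X, W)) :
    letI : Algebra Γ(Y, V) Γ(X, W) := (f.appLE V W e).hom.toAlgebra
    FibReg Γ(Y, V) Γ(F, W) fs (hW.primeIdealOf ⟨x, hx⟩) ↔
      IsWeaklyRegular (↑(F.presheaf.stalk x) ⧸ (Ideal.map (f.stalkMap x).hom
        (maximalIdeal ↑(Y.presheaf.stalk (f x))) • (⊤ : Submodule ↑(X.presheaf.stalk x) ↑(F.presheaf.stalk x))))
        (fs.map (X.presheaf.germ W x hx).hom) := by
  letI : Algebra Γ(Y, V) Γ(X, W) := (f.appLE V W e).hom.toAlgebra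
  let A := Γ(Y, V)
  let B := Γ(X, W)
  let R := X.presheaf.stalk x
  let Ry := Y.presheaf.stalk (f x)
  let N := F.presheaf.stalk x
  let q := hW.primeIdealOf ⟨x, hx⟩
  let Rq := Localization q.asIdeal.primeCompl
  let LN := LocalizedModule q.asIdeal.primeCompl Γ(F, W)
  letI := TopCat.Presheaf.algebra_section_stalk X.presheaf (⟨x, hx⟩ : W)
  letI := TopCat.Presheaf.algebra_section_stalk Y.presheaf (⟨f x, e hx⟩ : V)
  haveI : IsLocalization.AtPrime R q.asIdeal := hW.isLocalization_stalk ⟨x, hx⟩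
  haveI : IsLocalization.AtPrime Ry (hV.primeIdealOf ⟨f x, e hx⟩).asIdeal := hV.isLocalization_stalk ⟨f x, e hx⟩
  let σ : Rq ≃ₐ[B] R := IsLocalization.algEquiv q.asIdeal.primeCompl Rq R
  letI : Algebra Rq R := σ.toRingEquiv.toRingHom.toAlgebra
  haveI : IsScalarTower B Rq R := IsScalarTower.of_algebraMap_eq fun b => (σ.commutes b).symm
  letI : Module B N := Module.compHom N (X.presheaf.germ W x hx).hom
  haveI : IsScalarTower B R N := IsScalarTower.of_algebraMap_smul fun _ _ => rfl
  letI : Module Rq N := Module.compHom N (algebraMap Rq R)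
  haveI : IsScalarTower Rq R N := IsScalarTower.of_algebraMap_smul fun _ _ => rfl
  haveI : IsScalarTower B Rq N := IsScalarTower.of_algebraMap_smul fun b z => by
    rw [← algebraMap_smul R (algebraMap B Rq b) z, ← IsScalarTower.algebraMap_apply, algebraMap_smul]
  obtain ⟨g, hg⟩ := LocFree.exists_stalkMap hW hF hx
  haveI := hg
  let eN : LN ≃ₗ[Rq] N :=
    LinearEquiv.extendScalarsOfIsLocalization q.asIdeal.primeCompl Rq (IsLocalizedModule.iso q.asIdeal.primeCompl g)
  let I : Ideal R := Ideal.map (f.stalkMap x).hom (maximalIdeal Ry)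
  let J : Ideal Rq := (q.asIdeal.comap (algebraMap A B)).map (algebraMap A Rq)
  have hgerm : ∀ a : A, (f.stalkMap x).hom (algebraMap A Ry a) = algebraMap B R (algebraMap A B a) :=
    fun a => FibCrit.germ_comm f V W e x hx a
  have hp : q.asIdeal.comap (algebraMap A B) = (hV.primeIdealOf ⟨f x, e hx⟩).asIdeal := by
    ext a
    rw [Ideal.mem_comap, ← IsLocalization.AtPrime.to_map_mem_maximal_iff R q.asIdeal, ← hgerm,
      ← IsLocalization.AtPrime.to_map_mem_maximal_iff Ry (hV.primeIdealOf ⟨f x, e hx⟩).asIdeal]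
    exact ⟨fun h => map_mem_nonunits_iff (f.stalkMap x).hom _ |>.1 h, fun h => map_mem_nonunits_iff (f.stalkMap x).hom _ |>.2 h⟩
  have hI : J.map (algebraMap Rq R) = I := by
    simp only [J, I]
    rw [← IsLocalization.AtPrime.map_eq_maximalIdeal (hV.primeIdealOf ⟨f x, e hx⟩).asIdeal Ry, ← hp,
      Ideal.map_map, Ideal.map_map]
    congr 1
    exact RingHom.ext fun a => by
      change algebraMap Rq R (algebraMap B Rq (algebraMap A B a)) = (f.stalkMap x).hom (algebraMap A Ry a)
      rw [hgerm, ← IsScalarTower.algebraMap_apply]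
  have hK : (J • (⊤ : Submodule Rq LN)).map eN.toLinearMap = (I • (⊤ : Submodule R N)).restrictScalars Rq := by
    rw [Submodule.map_smul'', Submodule.map_top, LinearEquiv.range, ← hI, ← Submodule.restrictScalars_top Rq R,
      ← Ideal.smul_restrictScalars]
  let eQ : (LN ⧸ J • (⊤ : Submodule Rq LN)) ≃ₗ[Rq] (N ⧸ I • (⊤ : Submodule R N)) :=
    (Submodule.Quotient.equiv (J • ⊤) ((I • (⊤ : Submodule R N)).restrictScalars Rq) eN hK).trans
      (Submodule.Quotient.restrictScalarsEquiv Rq _)
  refine eQ.toAddEquiv.isWeaklyRegular_congr ?_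
  rw [List.forall₂_map_left_iff, List.forall₂_map_right_iff, List.forall₂_same]
  intro r _ z
  exact (eQ.map_smul (algebraMap B Rq r) z).trans (by
    rw [← algebraMap_smul R (algebraMap B Rq r), ← IsScalarTower.algebraMap_apply]; rfl)

end Groth.Agent.FibRegOpen
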